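import Mathlib
import Groth.Agent.W2LiftL.Basic

set_option autoImplicit false
universe u

open MvPolynomial FrobAlg

/-! No flat W₂-lifting of the Frobenius neighbourhood of a split quadric. -/

namespace SplitQuadricAux

variable {p : ℕ} [Fact p.Prime] {n : ℕ}

theorem exists_cross : ∃ C : MvPolynomial (Fin n) ℤ,
    (p : MvPolynomial (Fin n) ℤ) * C = (∑ i, X i) ^ p - ∑ i, X i ^ p := by
  have h : MvPolynomial.map (Int.castRingHom (ZMod p)) ((∑ i : Fin n, X i) ^ p - ∑ i, X i ^ p) = 0 := by
    simp only [map_sub, map_pow, map_sum, map_X, sum_pow_char p, sub_self]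
  obtain ⟨C', hC'⟩ := (MvPolynomial.C_dvd_iff_map_hom_eq_zero (Int.castRingHom (ZMod p)) (p : ℤ)
    (fun r => by rw [← ZMod.intCast_zmod_eq_zero_iff_dvd]; rfl) _).2 h
  exact ⟨C', by rw [hC', map_natCast]⟩

variable (hn : 3 ≤ n) (R : Type u) [CommRing R]

/-- `u₀ ↦ a`, `u₁ ↦ b`, `u₂ ↦ -(a+b)`, the other variables to `0`. -/
noncomputable def sub3 (i : Fin n) : MvPolynomial (Fin 2) R :=
  if i.1 = 0 then X 0 else if i.1 = 1 then X 1 else if i.1 = 2 then -(X 0 + X 1) else 0

include hn in
theorem sub3_sum (g : MvPolynomial (Fin 2) R → MvPolynomial (Fin 2) R) (hg : g 0 = 0) :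
    ∑ i : Fin n, g (sub3 R i) = g (X 0) + g (X 1) + g (-(X 0 + X 1)) := by
  obtain ⟨m, rfl⟩ : ∃ m, n = m + 1 + 1 + 1 := ⟨n - 3, by omega⟩
  rw [Fin.sum_univ_succ, Fin.sum_univ_succ, Fin.sum_univ_succ, Finset.sum_eq_zero (fun j _ => ?_)]
  · have h2 : (2 : ℕ) % (m + 3) = 2 := Nat.mod_eq_of_lt (by omega)
    simp [sub3, add_assoc, h2]
  · simp [sub3, hg]

/-- The exponent `(1, p-1)`. -/
noncomputable def expo (p : ℕ) : Fin 2 →₀ ℕ := Finsupp.single 0 1 + Finsupp.single 1 (p - 1)

theorem coeff_pow_int : coeff (expo p) ((X 0 + X 1 : MvPolynomial (Fin 2) ℤ) ^ p) = p := by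
  have hp := (Fact.out : p.Prime).two_le
  rw [add_pow, coeff_sum, Finset.sum_eq_single 1]
  · rw [← nsmul_eq_mul', coeff_smul, X_pow_eq_monomial, X_pow_eq_monomial, monomial_mul, coeff_monomial]
    simp [expo, Nat.choose_one_right]
  · intro b _ hb
    rw [← nsmul_eq_mul', coeff_smul, X_pow_eq_monomial, X_pow_eq_monomial, monomial_mul, coeff_monomial,
      if_neg, smul_zero]
    intro h
    exact hb (by simpa [expo] using congrArg (fun f => f 0) h)
  · intro h; exact absurd (Finset.mem_range.2 (by omega)) h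

include hn in
theorem coeff_cross {C : MvPolynomial (Fin n) ℤ}
    (hC : (p : MvPolynomial (Fin n) ℤ) * C = (∑ i, X i) ^ p - ∑ i, X i ^ p) :
    IsUnit (coeff (expo p) (aeval (sub3 ℤ) C)) := by
  have hp := (Fact.out : p.Prime).two_le
  have h := congrArg (aeval (sub3 ℤ)) hC
  simp only [map_mul, map_natCast, map_sub, map_pow, map_sum, aeval_X] at h
  rw [sub3_sum hn ℤ (fun x => x) rfl, sub3_sum hn ℤ (fun x => x ^ p) (zero_pow (by omega)),
    add_neg_cancel, zero_pow (by omega), zero_sub] at h
  have h' := congrArg (coeff (expo p)) h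
  rw [← map_natCast (MvPolynomial.C : ℤ →+* MvPolynomial (Fin 2) ℤ), coeff_C_mul, coeff_neg, coeff_add, coeff_add, neg_pow, X_pow_eq_monomial,
    X_pow_eq_monomial, coeff_monomial, coeff_monomial, if_neg, if_neg,
    show ((-1 : MvPolynomial (Fin 2) ℤ) ^ p) = MvPolynomial.C ((-1 : ℤ) ^ p) by simp, coeff_C_mul, coeff_pow_int,
    zero_add, zero_add] at h'
  · have hpz : (p : ℤ) ≠ 0 := by exact_mod_cast (show p ≠ 0 by omega)
    have : coeff (expo p) (aeval (sub3 ℤ) C) = -(-1) ^ p := mul_left_cancel₀ hpz (by rw [h']; ring)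
    rw [this]
    exact (isUnit_one.neg.pow p).neg
  · intro e; have := congrArg (fun f => f 0) e; simp [expo] at this
  · intro e; have := congrArg (fun f => f 0) e; simp [expo] at this; omega

variable {k : Type u} [Field k]

/-- Projection to the balanced monomials followed by `sub3`. -/
noncomputable def proj : MvPolynomial (Fin n × Fin 2) k →ₗ[k] MvPolynomial (Fin 2) k :=
  (basisMonomials (Fin n × Fin 2) k).constr k fun m =>
    if ∀ i, m (i, 0) = m (i, 1) then ∏ i, sub3 k i ^ m (i, 0) else 0

theorem proj_monomial (m : Fin n × Fin 2 →₀ ℕ) (c : k) :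
    proj (monomial m c) = c • (if ∀ i, m (i, 0) = m (i, 1) then ∏ i, sub3 k i ^ m (i, 0) else 0) := by
  rw [show monomial m c = c • basisMonomials (Fin n × Fin 2) k m by
    rw [coe_basisMonomials, smul_monomial, smul_eq_mul, mul_one], map_smul, proj, Module.Basis.constr_basis]

theorem proj_pair (i : Fin n) (g : MvPolynomial (Fin n × Fin 2) k) :
    proj (X (i, 0) * X (i, 1) * g) = sub3 k i * proj g := by
  induction g using MvPolynomial.induction_on' with
  | monomial m c =>
    rw [X, X, monomial_mul, monomial_mul, one_mul, one_mul, proj_monomial, proj_monomial, mul_smul_comm]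
    congr 1
    have key : ∀ j, ((Finsupp.single (i, (0 : Fin 2)) 1 + Finsupp.single (i, (1 : Fin 2)) 1 + m : Fin n × Fin 2 →₀ ℕ)) (j, 0)
        = (if j = i then 1 else 0) + m (j, 0) := fun j => by
      by_cases h : j = i <;> simp [h]
    have key' : ∀ j, ((Finsupp.single (i, (0 : Fin 2)) 1 + Finsupp.single (i, (1 : Fin 2)) 1 + m : Fin n × Fin 2 →₀ ℕ)) (j, 1)
        = (if j = i then 1 else 0) + m (j, 1) := fun j => by
      by_cases h : j = i <;> simp [h]
    simp only [key, key', add_right_inj]
    split_ifs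
    · simp only [pow_add, Finset.prod_mul_distrib, pow_ite, pow_one, pow_zero, Finset.prod_ite_eq',
        Finset.mem_univ, if_true]
    · rw [mul_zero]
  | add a b ha hb => rw [mul_add, map_add, ha, hb, map_add, mul_add]

theorem proj_pow [CharP k p] (v : Fin n × Fin 2) (g : MvPolynomial (Fin n × Fin 2) k) :
    coeff (expo p) (proj (X v ^ p * g)) = 0 := by
  have hp := (Fact.out : p.Prime).two_le
  induction g using MvPolynomial.induction_on' with
  | monomial m c =>
    rw [X_pow_eq_monomial, monomial_mul, one_mul, proj_monomial, coeff_smul]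
    split_ifs with hbal
    · obtain ⟨i, e⟩ := v
      have hge : p ≤ (Finsupp.single (i, e) p + m) (i, 0) := by
        have h2 := hbal i
        fin_cases e <;> simp at h2 ⊢ <;> omega
      obtain ⟨r, hr⟩ := Nat.exists_eq_add_of_le hge
      rw [← Finset.mul_prod_erase _ _ (Finset.mem_univ i), hr, pow_add, mul_assoc]
      set rest := sub3 k i ^ r * _
      have hXj : ∀ j : Fin 2, coeff (expo p) (X j ^ p * rest) = 0 := fun j => by
        rw [X_pow_eq_monomial, coeff_monomial_mul', if_neg]
        intro hle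
        have := hle j
        fin_cases j <;> simp [expo] at this <;> omega
      unfold sub3
      split_ifs
      · rw [hXj, smul_zero]
      · rw [hXj, smul_zero]
      · rw [neg_pow, add_pow_char, mul_assoc, show ((-1 : MvPolynomial (Fin 2) k) ^ p) = MvPolynomial.C ((-1 : k) ^ p) by simp,
          coeff_C_mul, add_mul, coeff_add, hXj, hXj, add_zero, mul_zero, smul_zero]
      · rw [zero_pow (by omega), zero_mul, coeff_zero, smul_zero]
    · rw [coeff_zero, smul_zero]
  | add a b ha hb => rw [mul_add, map_add, coeff_add, ha, hb, add_zero]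

theorem proj_aeval (P : MvPolynomial (Fin n) ℤ) :
    proj (aeval (fun i => (X (i, 0) * X (i, 1) : MvPolynomial (Fin n × Fin 2) k)) P) =
      aeval (sub3 k) P := by
  suffices h : ∀ g, proj (aeval (fun i => (X (i, 0) * X (i, 1) : MvPolynomial (Fin n × Fin 2) k)) P * g) =
      aeval (sub3 k) P * proj g by
    have h1 : proj (1 : MvPolynomial (Fin n × Fin 2) k) = 1 := by
      rw [show (1 : MvPolynomial (Fin n × Fin 2) k) = monomial 0 1 from rfl, proj_monomial]
      simp
    simpa [h1] using h 1
  induction P using MvPolynomial.induction_on with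
  | C a => intro g; simp [← zsmul_eq_mul]
  | add a b ha hb => intro g; rw [map_add, add_mul, map_add, ha, hb, map_add, add_mul]
  | mul_X a i ha => intro g; rw [map_mul (aeval _), aeval_X, mul_assoc, ha, proj_pair, map_mul (aeval _), aeval_X, mul_assoc]

theorem map_sub3 (P : MvPolynomial (Fin n) ℤ) :
    MvPolynomial.map (Int.castRingHom k) (aeval (sub3 ℤ) P) = aeval (sub3 k) P := by
  induction P using MvPolynomial.induction_on with
  | C a => simp
  | add a b ha hb => rw [map_add, map_add, ha, hb, map_add]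
  | mul_X a i ha =>
    rw [map_mul, aeval_X, map_mul, ha, map_mul, aeval_X]
    congr 1
    unfold sub3
    split_ifs <;> simp

theorem main [CharP k p] [PerfectRing k p] (hn : 3 ≤ n) :
    ¬ IsW2Liftable p k
      (MvPolynomial (Fin n × Fin 2) k ⧸ Ideal.span
        (insert (∑ i : Fin n, MvPolynomial.X (i, (0 : Fin 2)) * MvPolynomial.X (i, (1 : Fin 2)))
          (Set.range fun v : Fin n × Fin 2 => (MvPolynomial.X v : MvPolynomial (Fin n × Fin 2) k) ^ p))) := by
  set I := Ideal.span (insert (∑ i : Fin n, MvPolynomial.X (i, (0 : Fin 2)) * MvPolynomial.X (i, (1 : Fin 2)))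
    (Set.range fun v : Fin n × Fin 2 => (MvPolynomial.X v : MvPolynomial (Fin n × Fin 2) k) ^ p)) with hI
  rintro ⟨B, instB, ι, π, h⟩
  obtain ⟨C, hC⟩ := exists_cross (p := p) (n := n)
  have hker : ∀ b, π b = 0 → ∃ c, b = (p : B) * c := by
    intro b hb
    have hb' : b ∈ RingHom.ker π := hb
    rw [h.ker_eq, W2LiftLib.ker_res, Ideal.map_span, Set.image_singleton, map_natCast,
      Ideal.mem_span_singleton] at hb'
    exact hb'
  have hpp : (p : B) * p = 0 := by
    simpa using congrArg ι (W2LiftLib.natCast_sq (p := p) (k := k))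
  choose Y hY using fun v : Fin n × Fin 2 => h.surj (Ideal.Quotient.mk I (X v))
  have hYp : ∀ v, ∃ c, Y v ^ p = (p : B) * c := fun v => hker _ (by
    rw [map_pow, hY, ← map_pow, Ideal.Quotient.eq_zero_iff_mem]
    exact Ideal.subset_span (Set.mem_insert_of_mem _ ⟨v, rfl⟩))
  set u : Fin n → B := fun i => Y (i, 0) * Y (i, 1)
  have hu : ∀ i, u i ^ p = 0 := fun i => by
    obtain ⟨a, ha⟩ := hYp (i, 0)
    obtain ⟨b, hb⟩ := hYp (i, 1)
    rw [mul_pow, ha, hb, mul_mul_mul_comm, hpp, zero_mul]
  obtain ⟨g, hg⟩ := hker (∑ i, u i) (by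
    rw [map_sum]
    simp only [u, map_mul, hY]
    simp only [← map_mul, ← map_sum]
    rw [Ideal.Quotient.eq_zero_iff_mem]
    exact Ideal.subset_span (Set.mem_insert _ _))
  have hF : (∑ i, u i) ^ p = 0 := by
    rw [hg, mul_pow, show p = 2 + (p - 2) from (Nat.add_sub_cancel' (Fact.out : p.Prime).two_le).symm,
      pow_add, pow_two]
    push_cast
    rw [show ((2 : B) + ((p - 2 : ℕ) : B)) = (p : B) by
      rw [← Nat.cast_ofNat, ← Nat.cast_add, Nat.add_sub_cancel' (Fact.out : p.Prime).two_le], hpp,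
      zero_mul, zero_mul]
  have hpC : (p : B) * aeval u C = 0 := by
    have := congrArg (aeval u) hC
    simp only [map_mul, map_natCast, map_sub, map_pow, map_sum, aeval_X] at this
    rw [this, hF, Finset.sum_eq_zero (fun i _ => hu i), sub_zero]
  letI := ι.toAlgebra
  haveI : Module.Flat (W2 p k) B := h.flat
  obtain ⟨m, hm⟩ := (W2LiftLib.flat_iff B).1 this (aeval u C) (by
    rw [Algebra.smul_def, RingHom.algebraMap_toAlgebra, map_natCast]; exact hpC)
  have hπ : π (aeval u C) = 0 := by
    rw [hm, Algebra.smul_def, RingHom.algebraMap_toAlgebra, map_natCast, map_mul, map_natCast]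
    have : ((p : ℕ) : MvPolynomial (Fin n × Fin 2) k ⧸ I) = 0 := by
      rw [← map_natCast (algebraMap k (MvPolynomial (Fin n × Fin 2) k ⧸ I)), CharP.cast_eq_zero, map_zero]
    rw [this, zero_mul]
  have hcomp : π (aeval u C) = Ideal.Quotient.mk I
      (aeval (fun i => (X (i, 0) * X (i, 1) : MvPolynomial (Fin n × Fin 2) k)) C) := by
    change ((π.comp (aeval u).toRingHom) C) = ((Ideal.Quotient.mk I).comp (aeval _).toRingHom) C
    congr 1
    refine MvPolynomial.ringHom_ext (fun r => by simp) fun i => ?_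
    simp [u, hY]
  rw [hcomp, Ideal.Quotient.eq_zero_iff_mem] at hπ
  have hL : ∀ x ∈ I, ∀ g, coeff (expo p) (proj (x * g)) = 0 := by
    intro x hx
    rw [hI] at hx
    induction hx using Submodule.span_induction with
    | mem y hy =>
      intro g
      rcases hy with rfl | ⟨v, rfl⟩
      · rw [Finset.sum_mul, map_sum]
        simp only [proj_pair]
        rw [← Finset.sum_mul, sub3_sum hn k (fun x => x) rfl, add_neg_cancel, zero_mul, coeff_zero]
      · exact proj_pow v g
    | zero => intro g; simp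
    | add a b _ _ ha hb => intro g; rw [add_mul, map_add, coeff_add, ha, hb, add_zero]
    | smul a y _ hy => intro g; rw [smul_eq_mul, mul_assoc, mul_left_comm]; exact hy _
  have h0 := hL _ hπ 1
  rw [mul_one, proj_aeval, ← map_sub3, coeff_map] at h0
  exact ((coeff_cross hn hC).map (Int.castRingHom k)).ne_zero h0

end SplitQuadricAux
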